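import Mathlib.RingTheory.Etale.StandardEtale
import Mathlib.Algebra.Ring.Action.Invariant
import Mathlib.Algebra.Polynomial.GroupRingAction
import Mathlib.GroupTheory.GroupAction.Quotient
import Mathlib.Algebra.Polynomial.Derivative
import Mathlib.Tactic

/-! # The invariants of a subgroup are standard étale over the invariants away from a discriminant -/

set_option autoImplicit false

universe u

open Polynomial

namespace H18Inertia

variable {G R : Type u} [Group G] [Finite G] [CommRing R] [MulSemiringAction G R] (I : Subgroup G)

/-- The conjugates of an `I`-invariant element, indexed by `G ⧸ I`. -/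
def conj (x : FixedPoints.subring R I) (q : G ⧸ I) : R :=
  Quotient.liftOn' q (fun g => g • (x : R)) fun a b hab => by
    rw [QuotientGroup.leftRel_apply] at hab
    have h := x.2 ⟨a⁻¹ * b, hab⟩
    change (a⁻¹ * b) • (x : R) = x at h
    rw [mul_smul, inv_smul_eq_iff] at h
    exact h.symm

theorem conj_mk (x : FixedPoints.subring R I) (g : G) :
    conj I x (g : G ⧸ I) = g • (x : R) := rfl

theorem smul_conj (x : FixedPoints.subring R I) (h : G) (q : G ⧸ I) :
    h • conj I x q = conj I x (h • q) := by
  induction q using QuotientGroup.induction_on with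
  | H g => exact (mul_smul h g (x : R)).symm

variable [Fintype (G ⧸ I)] [DecidableEq (G ⧸ I)]

/-- The polynomial with the conjugates as roots. -/
noncomputable def prodR (x : FixedPoints.subring R I) : R[X] := ∏ q : G ⧸ I, (X - C (conj I x q))

/-- The Lagrange interpolation numerator. -/
noncomputable def interpR (x y : FixedPoints.subring R I) : R[X] :=
  ∑ q : G ⧸ I, C (conj I y q) * ∏ p ∈ Finset.univ.erase q, (X - C (conj I x p))

theorem smul_prodR (x : FixedPoints.subring R I) (h : G) : h • prodR I x = prodR I x := by
  rw [prodR, Finset.smul_prod']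
  simp only [smul_sub, Polynomial.smul_X, Polynomial.smul_C, smul_conj]
  exact Fintype.prod_equiv (MulAction.toPerm h) _ _ fun q => rfl

theorem smul_interpR (x y : FixedPoints.subring R I) (h : G) :
    h • interpR I x y = interpR I x y := by
  rw [interpR, Finset.smul_sum]
  simp only [smul_mul', Finset.smul_prod', smul_sub, Polynomial.smul_X, Polynomial.smul_C, smul_conj]
  refine Fintype.sum_equiv (MulAction.toPerm h) _ _ fun q => ?_
  show _ * _ = C (conj I y (h • q)) * _
  congr 1
  refine Finset.prod_equiv (MulAction.toPerm h) (fun p => ?_) (fun p _ => rfl)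
  simp

theorem mem_lifts_of_smul_eq {f : R[X]} (hf : ∀ h : G, h • f = f) :
    f ∈ lifts (algebraMap (FixedPoints.subring R G) R) :=
  (lifts_iff_coeff_lifts f).mpr fun n => ⟨⟨f.coeff n, fun h => by
    rw [← Polynomial.coeff_smul, hf]⟩, rfl⟩

theorem dvd_derivative_mul (x : FixedPoints.subring R I) {P : R[X]}
    (hP : ∀ q, P.eval (conj I x q) = 0) : prodR I x ∣ derivative (prodR I x) * P := by
  rw [prodR, derivative_prod_finset, Finset.sum_mul]
  refine Finset.dvd_sum fun q _ => ?_
  obtain ⟨Q, hQ⟩ := dvd_iff_isRoot.mpr (hP q)
  rw [derivative_X_sub_C, mul_one, hQ, ← mul_assoc,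
    Finset.prod_erase_mul _ _ (Finset.mem_univ q)]
  exact dvd_mul_right _ _

variable [Algebra (FixedPoints.subring R G) (FixedPoints.subring R I)]
  [IsScalarTower (FixedPoints.subring R G) (FixedPoints.subring R I) R]

/-- The discriminant element of `x` in the `I`-invariants. -/
noncomputable def discElt (x : FixedPoints.subring R I) : FixedPoints.subring R I :=
  ⟨∏ p ∈ Finset.univ.erase ((1 : G) : G ⧸ I), ((x : R) - conj I x p), fun i => by
    show (i : G) • (∏ p ∈ Finset.univ.erase ((1 : G) : G ⧸ I), ((x : R) - conj I x p)) = _
    rw [Finset.smul_prod']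
    simp only [smul_sub, smul_conj]
    have hx : (i : G) • (x : R) = x := x.2 i
    rw [hx]
    refine Finset.prod_equiv (MulAction.toPerm (i : G)) (fun p => ?_) (fun p _ => rfl)
    simp only [Finset.mem_erase, Finset.mem_univ, and_true, MulAction.toPerm_apply]
    have h1 : (i : G) • ((1 : G) : G ⧸ I) = ((1 : G) : G ⧸ I) := by
      show (((i : G) * 1 : G) : G ⧸ I) = _
      rw [mul_one, QuotientGroup.eq]
      simp
    constructor <;> intro hne heq
    · exact hne ((MulAction.injective (i : G)) (heq.trans h1.symm))
    · exact hne (by rw [heq, h1])⟩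

theorem coe_discElt (x : FixedPoints.subring R I) :
    (discElt I x : R) = ∏ p ∈ Finset.univ.erase ((1 : G) : G ⧸ I), ((x : R) - conj I x p) := rfl

theorem eval_derivative (x : FixedPoints.subring R I) :
    (derivative (prodR I x)).eval (x : R) = discElt I x := by
  rw [prodR, derivative_prod_finset, eval_finsetSum,
    Finset.sum_eq_single ((1 : G) : G ⧸ I), derivative_X_sub_C, mul_one, eval_prod, coe_discElt]
  · simp
  · intro q _ hq
    rw [derivative_X_sub_C, mul_one, eval_prod]
    refine Finset.prod_eq_zero (i := ((1 : G) : G ⧸ I))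
      (Finset.mem_erase.mpr ⟨hq.symm, Finset.mem_univ _⟩) ?_
    simp [conj_mk]
  · exact fun h => absurd (Finset.mem_univ _) h

theorem eval_interpR (x y : FixedPoints.subring R I) :
    (interpR I x y).eval (x : R) = y * discElt I x := by
  rw [interpR, eval_finsetSum, Finset.sum_eq_single ((1 : G) : G ⧸ I), eval_mul, eval_prod,
    coe_discElt]
  · simp [conj_mk]
  · intro q _ hq
    rw [eval_mul, eval_prod]
    rw [Finset.prod_eq_zero (i := ((1 : G) : G ⧸ I))
      (Finset.mem_erase.mpr ⟨hq.symm, Finset.mem_univ _⟩) (by simp [conj_mk]), mul_zero]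
  · exact fun h => absurd (Finset.mem_univ _) h

theorem etale_away_discElt (x : FixedPoints.subring R I) :
    Algebra.Etale (FixedPoints.subring R G) (Localization.Away (discElt I x)) := by
  rcases subsingleton_or_nontrivial R with hR | hR
  · haveI : Subsingleton (FixedPoints.subring R G) := inferInstance
    haveI : Subsingleton (FixedPoints.subring R I) := inferInstance
    let P : StandardEtalePair (FixedPoints.subring R G) :=
      ⟨1, monic_one, 1, 1, 1, 0, Subsingleton.elim _ _⟩
    haveI : Subsingleton P.Ring := (algebraMap (FixedPoints.subring R G) P.Ring).codomain_trivial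
    haveI : Subsingleton (Localization.Away (discElt I x)) :=
      (algebraMap (FixedPoints.subring R I) _).codomain_trivial
    exact Algebra.Etale.of_equiv (default : P.Ring ≃ₐ[_] _)
  let A := FixedPoints.subring R G
  let B := FixedPoints.subring R I
  have hinjA : Function.Injective (algebraMap A R) := Subtype.val_injective
  have hinjB : Function.Injective (algebraMap B R) := Subtype.val_injective
  have hprod : (prodR I x).Monic := monic_prod_of_monic _ _ fun q _ => monic_X_sub_C _
  obtain ⟨f, hf, -, hfm⟩ := lifts_and_natDegree_eq_and_monic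
    (mem_lifts_of_smul_eq (smul_prodR I x)) hprod
  have hval : ∀ P : A[X], algebraMap B R (aeval x P) = (P.map (algebraMap A R)).eval (x : R) :=
    fun P => by
      rw [← aeval_algebraMap_apply, eval_map]
      rfl
  have hf0 : aeval x f = 0 := hinjB (by
    rw [hval, hf, map_zero, prodR, eval_prod]
    exact Finset.prod_eq_zero (Finset.mem_univ ((1 : G) : G ⧸ I)) (by simp [conj_mk]))
  have hd : aeval x (derivative f) = discElt I x := hinjB (by
    rw [hval, ← derivative_map, hf, eval_derivative]
    rfl)
  let P : StandardEtalePair A := ⟨f, hfm, derivative f, 1, 0, 1, by ring⟩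
  let T := Localization.Away (discElt I x)
  let ψ : AdjoinRoot f →ₐ[A] B := Ideal.Quotient.liftₐ (Ideal.span {f}) (aeval x) fun a ha => by
    obtain ⟨b, rfl⟩ := Ideal.mem_span_singleton.mp ha
    rw [map_mul, hf0, zero_mul]
  have hψ : ∀ Q : A[X], ψ (AdjoinRoot.mk f Q) = aeval x Q := fun Q => rfl
  letI : Algebra (AdjoinRoot f) T := ((algebraMap B T).comp ψ.toRingHom).toAlgebra
  haveI : IsScalarTower A (AdjoinRoot f) T := IsScalarTower.of_algebraMap_eq fun a => by
    show algebraMap A T a = algebraMap B T (ψ (algebraMap A (AdjoinRoot f) a))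
    rw [ψ.commutes]
    exact IsScalarTower.algebraMap_apply A B T a
  have hpow : ∀ n : ℕ, algebraMap (AdjoinRoot f) T (AdjoinRoot.mk f (derivative f) ^ n) =
      algebraMap B T (discElt I x ^ n) := fun n => by
    show algebraMap B T (ψ _) = _
    rw [map_pow, hψ, hd]
  haveI : IsLocalization.Away (AdjoinRoot.mk f (derivative f)) T :=
    { map_units := by
        rintro ⟨_, n, rfl⟩
        rw [hpow, map_pow]
        exact (IsLocalization.Away.algebraMap_isUnit (discElt I x)).pow n
      surj := fun z => by
        obtain ⟨⟨y, ⟨_, n, rfl⟩⟩, hz⟩ := IsLocalization.surj (Submonoid.powers (discElt I x)) z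
        obtain ⟨h, hh⟩ := (mem_lifts _).mp (mem_lifts_of_smul_eq (smul_interpR I x y))
        refine ⟨⟨AdjoinRoot.mk f h, ⟨_, n + 1, rfl⟩⟩, ?_⟩
        have he : ψ (AdjoinRoot.mk f h) = y * discElt I x := hinjB (by
          rw [hψ, hval, hh, eval_interpR, map_mul]
          rfl)
        show z * algebraMap (AdjoinRoot f) T (AdjoinRoot.mk f (derivative f) ^ (n + 1)) =
          algebraMap B T (ψ (AdjoinRoot.mk f h))
        rw [hpow, he, map_mul, map_pow, pow_succ, ← mul_assoc, ← map_pow, hz]
      exists_of_eq := fun {a b} hab => by
        obtain ⟨a, rfl⟩ := AdjoinRoot.mk_surjective a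
        obtain ⟨b, rfl⟩ := AdjoinRoot.mk_surjective b
        obtain ⟨⟨_, N, rfl⟩, hN⟩ :=
          (IsLocalization.eq_iff_exists (Submonoid.powers (discElt I x)) T).mp hab
        refine ⟨⟨_, N + 1, rfl⟩, ?_⟩
        show AdjoinRoot.mk f (derivative f) ^ (N + 1) * AdjoinRoot.mk f a =
          AdjoinRoot.mk f (derivative f) ^ (N + 1) * AdjoinRoot.mk f b
        rw [← map_pow, ← map_mul, ← map_mul, AdjoinRoot.mk_eq_mk]
        refine (map_dvd_map (algebraMap A R) hinjA hfm).mp ?_
        let W : A[X] := derivative f ^ N * (a - b)
        have hW0 : aeval x W = 0 := by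
          change discElt I x ^ N * ψ (AdjoinRoot.mk f a) = discElt I x ^ N * ψ (AdjoinRoot.mk f b) at hN
          rw [hψ, hψ] at hN
          simp only [W, map_mul, map_pow, map_sub, hd, mul_sub, hN, sub_self]
        have hW : ∀ q, (W.map (algebraMap A R)).eval (conj I x q) = 0 := by
          intro q
          induction q using QuotientGroup.induction_on with
          | H g =>
            have hfix : g • W.map (algebraMap A R) = W.map (algebraMap A R) := by
              refine Polynomial.ext fun n => ?_
              rw [Polynomial.coeff_smul, coeff_map]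
              exact (W.coeff n).2 g
            rw [conj_mk, ← hfix, Polynomial.smul_eval_smul, ← hval, hW0, map_zero, smul_zero]
        have hdvd := dvd_derivative_mul I x hW
        rw [← hf, derivative_map, ← Polynomial.map_mul] at hdvd
        have e : derivative f * W = derivative f ^ (N + 1) * a - derivative f ^ (N + 1) * b := by
          show derivative f * (derivative f ^ N * (a - b)) = _
          ring
        rw [e] at hdvd
        exact hdvd }
  exact Algebra.Etale.of_equiv (P.equivAwayAdjoinRoot.trans
    ((IsLocalization.algEquiv (Submonoid.powers (AdjoinRoot.mk f (derivative f)))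
      (Localization.Away (AdjoinRoot.mk f (derivative f))) T).restrictScalars A))

end H18Inertia
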