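import Groth.Agent.H18Inertia.Etale
import Mathlib.RingTheory.Ideal.Pointwise
import Mathlib.RingTheory.Ideal.Maps
import Mathlib.Algebra.CharP.Defs
import Mathlib.Algebra.Polynomial.Expand
import Mathlib.RingTheory.IntegralDomain
import Mathlib.Tactic
import Mathlib.Data.Nat.Factorization.Basic

/-! # Elements of the inertia invariants separating the cosets of the inertia group -/

set_option autoImplicit false

universe u

open Polynomial
open scoped Pointwise

namespace H18Inertia

variable {G R : Type u} [Group G] [Finite G] [CommRing R] [MulSemiringAction G R] (q : Ideal R)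

theorem smul_eq_of_mem_inertia {g : G} (hg : g ∈ q.inertia G) : g • q = q := by
  refine Ideal.ext fun x => ⟨fun hx => ?_, fun hx => ?_⟩
  · rw [Ideal.mem_pointwise_smul_iff_inv_smul_mem] at hx
    have h := hg (g⁻¹ • x)
    rw [smul_inv_smul] at h
    change x - g⁻¹ • x ∈ q at h
    simpa using q.add_mem h hx
  · rw [Ideal.mem_pointwise_smul_iff_inv_smul_mem]
    have h := (q.inertia G).inv_mem hg x
    change g⁻¹ • x - x ∈ q at h
    simpa using q.add_mem h hx

/-- The decomposition group. -/
def decomp : Subgroup G := MulAction.stabilizer G q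

theorem smul_mem_iff {d : G} (hd : d ∈ decomp (G := G) q) {x : R} : d • x ∈ q ↔ x ∈ q := by
  conv_lhs => rw [← (MulAction.mem_stabilizer_iff.mp hd)]
  exact Ideal.smul_mem_pointwise_smul_iff

theorem smul_mem_fixed {d : G} (hd : d ∈ decomp (G := G) q) {x : R}
    (hx : x ∈ FixedPoints.subring R (q.inertia G)) : d • x ∈ FixedPoints.subring R (q.inertia G) := by
  intro i
  show (i : G) • d • x = d • x
  have hconj : d⁻¹ * (i : G) * d ∈ q.inertia G := fun y => by
    show (d⁻¹ * (i : G) * d) • y - y ∈ q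
    have h := (smul_mem_iff q ((decomp (G := G) q).inv_mem hd)).mpr (i.2 (d • y))
    change d⁻¹ • ((i : G) • d • y - d • y) ∈ q at h
    rwa [smul_sub, inv_smul_smul, ← mul_smul, ← mul_smul] at h
  have h2 := hx ⟨_, hconj⟩
  change (d⁻¹ * (i : G) * d) • x = x at h2
  rw [mul_assoc, mul_smul, mul_smul, inv_smul_eq_iff] at h2
  exact h2

variable [q.IsPrime]

local notation "φ" => Ideal.Quotient.mk q

/-- An element of the inertia invariants is moved mod `q` by every element of the decomposition
group outside the inertia group. -/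
theorem exists_moved {g : G} (hg : g ∈ decomp (G := G) q) (hgI : g ∉ q.inertia G) :
    ∃ y : R, y ∈ FixedPoints.subring R (q.inertia G) ∧ g • y - y ∉ q := by
  classical
  obtain ⟨b, hb⟩ : ∃ b, g • b - b ∉ q := by
    by_contra hc
    push Not at hc
    exact hgI hc
  haveI : Fintype (q.inertia G) := Fintype.ofFinite _
  set n := Fintype.card (q.inertia G) with hn
  obtain ⟨p, hp⟩ := ExpChar.exists (R ⧸ q)
  obtain ⟨a, m, hm, hnm⟩ : ∃ a m : ℕ, (m : R ⧸ q) ≠ 0 ∧ n = p ^ a * m := by
    rcases hp with _ | ⟨hprime⟩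
    · refine ⟨0, n, ?_, by simp⟩
      exact Nat.cast_ne_zero.mpr Fintype.card_ne_zero
    · obtain ⟨a, m, hm, hnm⟩ := Nat.exists_eq_pow_mul_and_not_dvd (n := n) Fintype.card_ne_zero p hprime.ne_one
      exact ⟨a, m, fun h => hm ((CharP.cast_eq_zero_iff (R ⧸ q) p m).mp h), hnm⟩
  let P : R[X] := ∏ i : q.inertia G, (X - C ((i : G) • b))
  have hPfix : ∀ h : q.inertia G, (h : G) • P = P := fun h => by
    simp only [P, Finset.smul_prod', smul_sub, Polynomial.smul_X, Polynomial.smul_C]
    exact Fintype.prod_equiv (Equiv.mulLeft h) _ _ fun i => by simp [mul_smul]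
  have hPmap : P.map φ = (X - C (φ b)) ^ n := by
    simp only [P, Polynomial.map_prod, Polynomial.map_sub, map_X, map_C]
    rw [Finset.prod_eq_pow_card (b := X - C (φ b))]
    · rfl
    · intro i _
      congr 2
      exact Ideal.Quotient.eq.mpr (i.2 b)
  have hm1 : 1 ≤ m := Nat.one_le_iff_ne_zero.mpr fun h => hm (by simp [h])
  have hppos : 0 < p ^ a := pow_pos (expChar_pos (R ⧸ q) p) a
  have hcoeff : ∀ c : R ⧸ q, ((X - C c) ^ n).coeff (p ^ a * (m - 1)) = -((m : R ⧸ q) * c ^ p ^ a) := by
    intro c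
    rw [hnm, pow_mul, sub_pow_expChar_pow, ← C_pow,
      show (X : (R ⧸ q)[X]) ^ p ^ a - C (c ^ p ^ a) = expand (R ⧸ q) (p ^ a) (X - C (c ^ p ^ a)) by simp,
      ← map_pow, coeff_expand_mul' hppos, sub_eq_add_neg, ← C_neg, coeff_X_add_C_pow,
      show m - (m - 1) = 1 by omega, pow_one, Nat.choose_symm_of_eq_add (show m = (m - 1) + 1 by omega),
      Nat.choose_one_right]
    ring
  refine ⟨P.coeff (p ^ a * (m - 1)), fun h => ?_, fun hmem => hb ?_⟩
  · show (h : G) • P.coeff _ = P.coeff _
    rw [← Polynomial.coeff_smul, hPfix]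
  · let k : R := P.coeff (p ^ a * (m - 1)) + (m : R) * b ^ p ^ a
    have hk : k ∈ q := by
      rw [← Ideal.Quotient.eq_zero_iff_mem, map_add, ← coeff_map, hPmap, hcoeff, map_mul, map_pow,
        map_natCast]
      ring
    have hgk : g • k - k ∈ q := q.sub_mem ((smul_mem_iff q hg).mpr hk) hk
    have h3 : (m : R) * ((g • b) ^ p ^ a - b ^ p ^ a) ∈ q := by
      have e : (m : R) * ((g • b) ^ p ^ a - b ^ p ^ a) =
          (g • k - k) - (g • P.coeff (p ^ a * (m - 1)) - P.coeff (p ^ a * (m - 1))) := by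
        have hgm : g • (m : R) = (m : R) := map_natCast (MulSemiringAction.toRingHom G R g) m
        simp only [k, smul_add, smul_mul', smul_pow', hgm]
        ring
      rw [e]
      exact q.sub_mem hgk hmem
    rw [← Ideal.Quotient.eq_zero_iff_mem, map_mul, map_natCast, map_sub, map_pow, map_pow,
      mul_eq_zero, sub_eq_zero] at h3
    rcases h3 with h3 | h3
    · exact absurd h3 hm
    · exact Ideal.Quotient.eq.mp (iterateFrobenius_inj (R ⧸ q) p a h3)

/-- An element of the inertia invariants outside `q`, moved mod `q` by every element of the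
decomposition group outside the inertia group. -/
theorem exists_moved_all :
    ∃ t : R, t ∈ FixedPoints.subring R (q.inertia G) ∧ t ∉ q ∧
      ∀ g : G, g ∈ decomp (G := G) q → g ∉ q.inertia G → g • t - t ∉ q := by
  classical
  let R' := FixedPoints.subring R (q.inertia G)
  let ψ : R' →+* R ⧸ q := (Ideal.Quotient.mk q).comp R'.subtype
  haveI : Fintype (decomp (G := G) q) := Fintype.ofFinite _
  let C0 : Set R' := {c | ∀ g ∈ decomp (G := G) q, g • (c : R) - c ∈ q}
  rcases (ψ '' C0).finite_or_infinite with hfin | hinf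
  · -- the image of the invariants is a finite field
    have hrange : (Set.range ψ).Finite := by
      let D := Nat.card (decomp (G := G) q)
      have hroots : Set.range ψ ⊆ ⋃ c ∈ {c : Fin D → R ⧸ q | ∀ i, c i ∈ ψ '' C0},
          {z | z ∈ (X ^ D + ∑ i : Fin D, C (c i) * X ^ (i : ℕ) : (R ⧸ q)[X]).roots} := by
        rintro _ ⟨y, rfl⟩
        let Q : R'[X] := ∏ g : decomp (G := G) q, (X - C ⟨(g : G) • (y : R), smul_mem_fixed q g.2 y.2⟩)
        have hQ : Q.Monic := monic_prod_of_monic _ _ fun _ _ => monic_X_sub_C _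
        have hQd : Q.natDegree = D := by
          haveI : Nontrivial R := ⟨⟨0, 1, fun h => ‹q.IsPrime›.ne_top
            ((Ideal.eq_top_iff_one q).mpr (h ▸ q.zero_mem))⟩⟩
          haveI : Nontrivial R' := ⟨⟨0, 1, fun h => zero_ne_one (congrArg Subtype.val h)⟩⟩
          rw [natDegree_prod_of_monic _ _ fun _ _ => monic_X_sub_C _]
          simp only [natDegree_X_sub_C, Finset.sum_const, Finset.card_univ, smul_eq_mul, mul_one]
          exact (Nat.card_eq_fintype_card).symm
        have hQR : ∀ h : decomp (G := G) q, (h : G) • Q.map R'.subtype = Q.map R'.subtype := fun h => by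
          simp only [Q, Polynomial.map_prod, Polynomial.map_sub, map_X, map_C, Finset.smul_prod',
            smul_sub, Polynomial.smul_X, Polynomial.smul_C]
          exact Fintype.prod_equiv (Equiv.mulLeft h) _ _ fun i => by simp [mul_smul]
        have hc : ∀ i, Q.coeff i ∈ C0 := fun i g hg => by
          have h := congrArg (fun P : R[X] => P.coeff i) (hQR ⟨g, hg⟩)
          simp only [Polynomial.coeff_smul, coeff_map] at h
          change g • (Q.coeff i : R) = Q.coeff i at h
          rw [h, sub_self]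
          exact q.zero_mem
        refine Set.mem_biUnion (x := fun i : Fin D => ψ (Q.coeff i))
          (fun i => ⟨_, hc i, rfl⟩) ?_
        have e : (X ^ D + ∑ i : Fin D, C (ψ (Q.coeff i)) * X ^ (i : ℕ) : (R ⧸ q)[X]) = Q.map ψ := by
          conv_rhs => rw [hQ.as_sum, hQd]
          rw [Polynomial.map_add, Polynomial.map_pow, map_X, Polynomial.map_sum, Finset.sum_range]
          congr 1
          exact Finset.sum_congr rfl fun i _ => by simp
        show ψ y ∈ (X ^ D + _ : (R ⧸ q)[X]).roots
        rw [e, mem_roots (hQ.map ψ).ne_zero, IsRoot.def, eval_map, eval₂_hom]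
        simp only [Q, eval_prod]
        rw [Finset.prod_eq_zero (Finset.mem_univ (1 : decomp (G := G) q)), map_zero]
        simp
      refine Set.Finite.subset ?_ hroots
      refine Set.Finite.biUnion ?_ fun c _ => (Multiset.finite_toSet _).subset fun z hz => hz
      exact (Set.Finite.pi' fun _ : Fin D => hfin).subset fun c hc => hc
    let S := ψ.range
    haveI : Finite S := hrange.to_subtype
    obtain ⟨w, hw⟩ := IsCyclic.exists_generator (α := Sˣ)
    obtain ⟨t, ht⟩ : ∃ t : R', ψ t = ((w : S) : R ⧸ q) := (w : S).2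
    have htq : (t : R) ∉ q := by
      intro h
      have h0 : ψ t = 0 := Ideal.Quotient.eq_zero_iff_mem.mpr h
      rw [h0] at ht
      exact w.ne_zero (Subtype.ext ht.symm)
    refine ⟨t, t.2, htq, fun g hg hgI hgt => ?_⟩
    obtain ⟨y, hy, hgy⟩ := exists_moved q hg hgI
    refine hgy ?_
    by_cases hy0 : y ∈ q
    · exact q.sub_mem ((smul_mem_iff q hg).mpr hy0) hy0
    · have hne : (⟨ψ ⟨y, hy⟩, ⟨_, rfl⟩⟩ : S) ≠ 0 := fun h =>
        hy0 (Ideal.Quotient.eq_zero_iff_mem.mp (congrArg Subtype.val h))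
      obtain ⟨z, hz⟩ := (Finite.isField_of_domain S).mul_inv_cancel hne
      obtain ⟨k, hk⟩ := mem_powers_iff_mem_zpowers.mpr
        (hw ⟨⟨ψ ⟨y, hy⟩, ⟨_, rfl⟩⟩, z, hz, by rw [mul_comm]; exact hz⟩)
      have hk' : ψ t ^ k = ψ ⟨y, hy⟩ := by
        have h := congrArg (fun x : Sˣ => ((x : S) : R ⧸ q)) hk
        simpa [ht] using h
      have hyt : y - (t : R) ^ k ∈ q := Ideal.Quotient.eq.mp (by
        rw [map_pow]
        exact hk'.symm)
      have hgyt : g • y - (g • (t : R)) ^ k ∈ q := by
        rw [← smul_pow', ← smul_sub]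
        exact (smul_mem_iff q hg).mpr hyt
      rw [← Ideal.Quotient.eq, map_pow] at hgyt hyt
      rw [← Ideal.Quotient.eq] at hgt ⊢
      rw [hgyt, hgt, hyt]
  · -- the image of the invariants is infinite: combine elements with coefficients
    let J := {g : decomp (G := G) q // (g : G) ∉ q.inertia G}
    haveI : Fintype J := Fintype.ofFinite _
    choose y hy hgy using fun g : J => exists_moved q g.1.2 g.2
    let e := Fintype.equivFin J
    let T : R → R := fun c => 1 + ∑ j : J, c ^ ((e j : ℕ) + 1) * y j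
    let p0 : (R ⧸ q)[X] := 1 + ∑ j : J, C (φ (y j)) * X ^ ((e j : ℕ) + 1)
    let pg : J → (R ⧸ q)[X] := fun g =>
      ∑ j : J, C (φ (((g.1 : decomp (G := G) q) : G) • y j - y j)) * X ^ ((e j : ℕ) + 1)
    have hp0 : p0 ≠ 0 := fun h => by
      have h1 := congrArg (fun P : (R ⧸ q)[X] => P.coeff 0) h
      simp [p0] at h1
    have hpg : ∀ g, pg g ≠ 0 := fun g h => by
      have h1 := congrArg (fun P : (R ⧸ q)[X] => P.coeff ((e g : ℕ) + 1)) h
      simp only [pg, finsetSum_coeff, coeff_C_mul_X_pow, coeff_zero] at h1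
      rw [Finset.sum_eq_single g (fun j _ hj => if_neg fun he =>
        hj (e.injective (Fin.ext (by omega)))) (fun h => absurd (Finset.mem_univ _) h), if_pos rfl] at h1
      exact hgy g (Ideal.Quotient.eq_zero_iff_mem.mp h1)
    let bad : Finset (R ⧸ q) := p0.roots.toFinset ∪ Finset.univ.biUnion fun g => (pg g).roots.toFinset
    obtain ⟨_, ⟨c, hc, rfl⟩, hcb⟩ := (hinf.sdiff bad.finite_toSet).nonempty
    simp only [bad, Finset.coe_union, Finset.coe_biUnion, Set.mem_union, Finset.mem_coe,
      Multiset.mem_toFinset, not_or, Set.mem_iUnion, not_exists, mem_roots hp0,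
      mem_roots (hpg _), IsRoot.def] at hcb
    have hT : T (c : R) ∈ R' := R'.add_mem R'.one_mem
      (R'.sum_mem fun j _ => R'.mul_mem (R'.pow_mem c.2 _) (hy j))
    refine ⟨T c, hT, fun h => hcb.1 ?_, fun g hg hgI h => hcb.2 ⟨⟨g, hg⟩, hgI⟩ (Finset.mem_univ _) ?_⟩
    · rw [← Ideal.Quotient.eq_zero_iff_mem] at h
      rw [← h]
      simp [p0, T, ψ, eval_finsetSum, mul_comm]
    · have hgc : φ (g • (c : R)) = φ (c : R) := Ideal.Quotient.eq.mpr (hc g hg)
      rw [← Ideal.Quotient.eq_zero_iff_mem] at h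
      rw [← h]
      simp only [T, pg, eval_finsetSum, eval_mul, eval_sub, eval_C, eval_pow, eval_X, smul_add, smul_one,
        Finset.smul_sum, smul_mul', smul_pow', add_sub_add_left_eq_sub, ← Finset.sum_sub_distrib,
        map_sum, map_sub, map_mul, map_pow, hgc]
      refine Finset.sum_congr rfl fun j _ => ?_
      show _ * (φ (c : R)) ^ _ = _
      ring

/-- Some element of the inertia invariants is moved mod `q` by everything outside the inertia. -/
theorem exists_separating :
    ∃ x : FixedPoints.subring R (q.inertia G), ∀ g : G, g ∉ q.inertia G → g • (x : R) - x ∉ q := by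
  classical
  haveI : Fintype G := Fintype.ofFinite G
  let R' := FixedPoints.subring R (q.inertia G)
  haveI : Fintype (q.inertia G) := Fintype.ofFinite _
  haveI : Fintype (decomp (G := G) q) := Fintype.ofFinite _
  have hs : ∀ g : {g : G // g ∉ decomp (G := G) q}, ∃ s : R, s ∈ R' ∧ g.1 • s ∈ q ∧ s ∉ q := by
    rintro ⟨g, hg⟩
    obtain ⟨a, haq, ha⟩ : ∃ a, g • a ∈ q ∧ a ∉ q := by
      by_contra hc
      push Not at hc
      refine hg ?_
      have hle : g⁻¹ • q ≤ q := fun x hx => by
        refine hc x ?_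
        rwa [Ideal.mem_pointwise_smul_iff_inv_smul_mem, inv_inv] at hx
      have hpow : ∀ k : ℕ, g⁻¹ ^ (k + 1) • q ≤ g⁻¹ • q := by
        intro k
        induction k with
        | zero => rw [zero_add, pow_one]
        | succ k ih =>
          rw [pow_succ', mul_smul]
          exact Ideal.pointwise_smul_le_pointwise_smul_iff.mpr (ih.trans hle)
      have h1 := hpow (orderOf g⁻¹ - 1)
      rw [Nat.sub_add_cancel (orderOf_pos g⁻¹), pow_orderOf_eq_one, one_smul] at h1
      exact inv_mem_iff.mp (MulAction.mem_stabilizer_iff.mpr (le_antisymm hle h1) : g⁻¹ ∈ decomp (G := G) q)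
    refine ⟨∏ i : q.inertia G, (i : G) • a, fun h => ?_, ?_, ?_⟩
    · show (h : G) • ∏ i : q.inertia G, (i : G) • a = _
      rw [Finset.smul_prod']
      exact Fintype.prod_equiv (Equiv.mulLeft h) _ _ fun i => by simp [mul_smul]
    · rw [Finset.smul_prod']
      exact Ideal.prod_mem q (i := (1 : q.inertia G)) (Finset.mem_univ _) (by simpa using haq)
    · intro h
      obtain ⟨i, -, hi⟩ := (Ideal.IsPrime.prod_mem_iff).mp h
      exact ha ((smul_mem_iff q (MulAction.mem_stabilizer_iff.mpr (smul_eq_of_mem_inertia q i.2))).mp hi)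
  choose s hs1 hs2 hs3 using hs
  obtain ⟨t, ht, htq, htg⟩ := exists_moved_all (G := G) q
  let s1 : R := ∏ g, s g
  have hs1m : s1 ∈ R' := R'.prod_mem fun g _ => hs1 g
  have hs1q : s1 ∉ q := fun h => by
    obtain ⟨g, -, hg⟩ := (Ideal.IsPrime.prod_mem_iff).mp h
    exact hs3 g hg
  let s0 : R := ∏ d : decomp (G := G) q, (d : G) • s1
  have hs0m : s0 ∈ R' := R'.prod_mem fun d _ => smul_mem_fixed q d.2 hs1m
  have hs0q : s0 ∉ q := fun h => by
    obtain ⟨d, -, hd⟩ := (Ideal.IsPrime.prod_mem_iff).mp h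
    exact hs1q ((smul_mem_iff q d.2).mp hd)
  refine ⟨⟨s0 * t, R'.mul_mem hs0m ht⟩, fun g hgI h => ?_⟩
  change g • (s0 * t) - s0 * t ∈ q at h
  by_cases hg : g ∈ decomp (G := G) q
  · have hfix : g • s0 = s0 := by
      simp only [s0, Finset.smul_prod']
      exact Fintype.prod_equiv (Equiv.mulLeft (⟨g, hg⟩ : decomp (G := G) q)) _ _ fun d => by simp [mul_smul]
    rw [smul_mul', hfix, ← mul_sub] at h
    exact (Ideal.IsPrime.mem_or_mem ‹_› h).elim hs0q (htg g hg hgI)
  · have hgx : g • (s0 * t) ∈ q := by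
      rw [smul_mul']
      refine q.mul_mem_right _ ?_
      simp only [s0, Finset.smul_prod']
      refine Ideal.prod_mem q (i := (1 : decomp (G := G) q)) (Finset.mem_univ _) ?_
      simp only [OneMemClass.coe_one, one_smul, s1, Finset.smul_prod']
      exact Ideal.prod_mem q (i := (⟨g, hg⟩ : {g : G // g ∉ decomp (G := G) q})) (Finset.mem_univ _) (hs2 ⟨g, hg⟩)
    have hx : s0 * t ∈ q := by
      simpa using q.sub_mem hgx h
    exact (Ideal.IsPrime.mem_or_mem ‹_› hx).elim hs0q htq

end H18Inertia
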